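/-
The equations for the degrees of the principal block of a simple group with an involution
centraliser `2 × PSL₂(q)`: the configuration that does not occur.
-/
import Mathlib

set_option autoImplicit false

namespace Cfsg.Agent.Lib.JankoThompson.Arith

/-- The two consequences of the class equations in the second configuration. -/
theorem bad_identities {Q K a b₁ b₂ S : ℚ} (hQ : Q + 1 ≠ 0) (hb₁ : b₁ ≠ 0)
    (hA : 1 + 1 / a + S = K * (Q - 1))
    (hB : ((Q - 1) / 2) ^ 2 * (1 / b₁ + 1 / b₂) + S = K * (3 * Q - 1) / (Q + 1))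
    (hF₁ : 1 + 1 / a - S - 2 * ((Q - 1) / 2) ^ 2 / b₂ + (3 * (Q - 1)) ^ 2 / (-2 * b₁) = K * (Q + 1)) :
    b₁ * (K * Q) = -2 * ((Q - 1) / 2) ^ 2 * (Q + 1) ∧
      1 + 1 / a = K * Q + ((Q - 1) / 2) ^ 2 / b₂ + 9 * ((Q - 1) / 2) ^ 2 / b₁ := by
  have e2 : 1 + 1 / a = K * Q + ((Q - 1) / 2) ^ 2 / b₂ + 9 * ((Q - 1) / 2) ^ 2 / b₁ := by
    have h9 : (3 * (Q - 1)) ^ 2 / (-2 * b₁) = -18 * ((Q - 1) / 2) ^ 2 / b₁ := by field_simp; ring
    rw [h9] at hF₁
    linear_combination (1 / 2 : ℚ) * hA + (1 / 2 : ℚ) * hF₁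
  refine ⟨?_, e2⟩
  have key : -8 * ((Q - 1) / 2) ^ 2 / b₁ = 4 * (K * Q) / (Q + 1) := by
    have hk : K * (3 * Q - 1) / (Q + 1) - K * (Q - 1) + K * Q = 4 * (K * Q) / (Q + 1) := by
      field_simp; ring
    rw [← hk]
    linear_combination hB - hA + e2
  field_simp at key
  linear_combination (-1 / 16 : ℚ) * key

/-- A multiple of `2 (Q + 1)` is not too small. -/
theorem zero_of_small {Q q x j : ℤ} (hq : |Q| = q) (h : x = 2 * (Q + 1) * j) (hx : |x| < 2 * q - 2) :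
    j = 0 := by
  by_contra hj
  have h1 : 1 ≤ |j| := Int.one_le_abs hj
  have h2 : q - 1 ≤ |Q + 1| := by
    have := abs_sub_abs_le_abs_sub Q (-1)
    rw [abs_neg, abs_one, sub_neg_eq_add] at this
    omega
  have h3 : |x| = 2 * |Q + 1| * |j| := by rw [h, abs_mul, abs_mul, abs_two]
  nlinarith [abs_nonneg (Q + 1)]

/-- The residue class `Q + 4` modulo `2 (Q + 1)` avoids small numbers. -/
theorem class_lower {Q q x : ℤ} (hq : |Q| = q) (hQ : 12 ≤ q) (h : 2 * (Q + 1) ∣ x - (Q + 4)) :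
    q - 4 ≤ |x| := by
  obtain ⟨j, hj⟩ := h
  by_contra hx
  have hx' : |x| < q - 4 := not_le.1 hx
  have h4 : |Q + 4| ≤ q + 4 := by
    have := abs_add_le Q 4
    norm_num at this
    omega
  have hs : |x - (Q + 4)| < 2 * q - 2 + 2 := by
    have := abs_sub x (Q + 4)
    omega
  rcases eq_or_ne j 0 with rfl | hj0
  · rw [mul_zero, sub_eq_zero] at hj
    rw [hj] at hx'
    rcases abs_cases Q with ⟨e, _⟩ | ⟨e, _⟩ <;> rcases abs_cases (Q + 4) with ⟨e', _⟩ | ⟨e', _⟩ <;> omega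
  · have h1 : 1 ≤ |j| := Int.one_le_abs hj0
    have h2 : |x - (Q + 4)| = 2 * |Q + 1| * |j| := by rw [hj, abs_mul, abs_mul, abs_two]
    rcases eq_or_ne j (-1) with rfl | hjm
    · have : x = 2 - Q := by linear_combination hj
      rw [this] at hx'
      rcases abs_cases Q with ⟨e, _⟩ | ⟨e, _⟩ <;> rcases abs_cases (2 - Q) with ⟨e', _⟩ | ⟨e', _⟩ <;> omega
    · rcases le_or_gt 0 Q with hQ0 | hQ0
      · rcases le_or_gt 1 j with hj1 | hj1
        · have : 3 * Q ≤ x := by nlinarith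
          rcases abs_cases Q with ⟨e, _⟩ | ⟨e, _⟩ <;> rcases abs_cases x with ⟨e', _⟩ | ⟨e', _⟩ <;> omega
        · have : x ≤ -3 * Q := by nlinarith [show j ≤ -2 by omega]
          rcases abs_cases Q with ⟨e, _⟩ | ⟨e, _⟩ <;> rcases abs_cases x with ⟨e', _⟩ | ⟨e', _⟩ <;> omega
      · rcases le_or_gt 1 j with hj1 | hj1
        · have : x ≤ 3 * Q + 6 := by nlinarith
          rcases abs_cases Q with ⟨e, _⟩ | ⟨e, _⟩ <;> rcases abs_cases x with ⟨e', _⟩ | ⟨e', _⟩ <;> omega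
        · have : -3 * Q ≤ x := by nlinarith [show j ≤ -2 by omega]
          rcases abs_cases Q with ⟨e, _⟩ | ⟨e, _⟩ <;> rcases abs_cases x with ⟨e', _⟩ | ⟨e', _⟩ <;> omega

/-- The candidates for `x` stay away from `m`. -/
theorem dist_lower {Q q m x : ℤ} (hq : |Q| = q) (hQ : 12 ≤ q) (hm : 2 * m = Q - 1)
    (h : 4 * (Q + 1) ∣ 2 * x + 12 + (Q + 1)) : q - 6 ≤ |x - m| := by
  obtain ⟨j, hj⟩ := h
  have e : x - m = 2 * (Q + 1) * j - (Q + 6) := by linarith
  rcases eq_or_ne j 0 with rfl | hj0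
  · rw [e]
    rcases abs_cases Q with ⟨e, _⟩ | ⟨e, _⟩ <;> rcases abs_cases (2 * (Q + 1) * 0 - (Q + 6)) with ⟨e', _⟩ | ⟨e', _⟩ <;> omega
  · rcases le_or_gt 0 Q with hQ0 | hQ0
    · rcases le_or_gt 1 j with hj1 | hj1
      · have : Q - 4 ≤ x - m := by rw [e]; nlinarith
        rcases abs_cases Q with ⟨e, _⟩ | ⟨e, _⟩ <;> rcases abs_cases (x - m) with ⟨e', _⟩ | ⟨e', _⟩ <;> omega
      · have : x - m ≤ -3 * Q := by rw [e]; nlinarith [show j ≤ -1 by omega]
        rcases abs_cases Q with ⟨e, _⟩ | ⟨e, _⟩ <;> rcases abs_cases (x - m) with ⟨e', _⟩ | ⟨e', _⟩ <;> omega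
    · rcases le_or_gt 1 j with hj1 | hj1
      · have : x - m ≤ Q - 4 := by rw [e]; nlinarith
        rcases abs_cases Q with ⟨e, _⟩ | ⟨e, _⟩ <;> rcases abs_cases (x - m) with ⟨e', _⟩ | ⟨e', _⟩ <;> omega
      · have : -3 * Q - 8 ≤ x - m := by rw [e]; nlinarith [show j ≤ -1 by omega]
        rcases abs_cases Q with ⟨e, _⟩ | ⟨e, _⟩ <;> rcases abs_cases (x - m) with ⟨e', _⟩ | ⟨e', _⟩ <;> omega

/-- The error term `δ = -(f η) / (g + η)`. -/
theorem delta_bound {m g f η δ c : ℚ} (hc : 0 ≤ c) (hm : 13 ≤ |m|) (hg : 23 ≤ |g|)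
    (hf : |f| ≤ c * |m|) (hη : m ^ 2 * η = f) (hc' : c ≤ 4) (hδ : δ * (g + η) = -(f * η)) :
    |δ| * 22 ≤ c ^ 2 := by
  have hm0 : 0 < |m| := by linarith
  have h1 : |η| * |m| ≤ c := by
    have e : |m| ^ 2 * |η| = |f| := by rw [← hη, abs_mul, abs_pow]
    nlinarith
  have h2 : |η| ≤ 1 := by nlinarith [abs_nonneg η]
  have h3 : 22 ≤ |g + η| := by
    have := abs_sub_abs_le_abs_sub g (-η)
    rw [abs_neg, sub_neg_eq_add] at this
    linarith
  have h4 : |δ| * |g + η| = |f| * |η| := by rw [← abs_mul, hδ, abs_neg, abs_mul]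
  have h5 : |f| * |η| ≤ c ^ 2 := by
    calc |f| * |η| ≤ c * |m| * |η| := mul_le_mul_of_nonneg_right hf (abs_nonneg η)
      _ = c * (|η| * |m|) := by ring
      _ ≤ c * c := mul_le_mul_of_nonneg_left h1 hc
      _ = c ^ 2 := by ring
  nlinarith [abs_nonneg δ]

/-- The denominator `Q² + m i` is large away from two values of `k`. -/
theorem den_bound {Q q m i k : ℤ} (hq : |Q| = q) (hQ : 27 ≤ q) (hm : 2 * m = Q - 1)
    (hk : i - (Q + 4) = 2 * (Q + 1) * k) (h : 0 ≤ k ∨ k ≤ -3) :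
    20 * q ^ 2 ≤ 14 * |Q ^ 2 + m * i| := by
  set den := Q ^ 2 + m * i with hden
  have e : (2 : ℤ) * den = 3 * Q ^ 2 + 3 * Q - 4 + 2 * k * (Q ^ 2 - 1) := by
    rw [hden]; linear_combination (Q - 1) * hk + i * hm
  have hl := le_abs_self Q
  have hr := neg_abs_le Q
  rw [hq] at hl hr
  have hqq : q ^ 2 = Q ^ 2 := by rw [← hq, sq_abs]
  have hbig : 27 * q ≤ q ^ 2 := by nlinarith
  rcases h with h | h
  · have hlow : 0 ≤ k * (Q ^ 2 - 1) := mul_nonneg h (by nlinarith)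
    have := le_abs_self den
    nlinarith
  · have hlow : k * (Q ^ 2 - 1) ≤ -3 * (Q ^ 2 - 1) := mul_le_mul_of_nonneg_right (by omega) (by nlinarith)
    have := neg_abs_le den
    nlinarith

/-- The exact form of the second equation. -/
theorem key_identity {Q a g b₂ m x E i den f η : ℚ} (hb : b₂ = 1 + a + m * g) (hd : den = Q ^ 2 + m * i)
    (hi : i * a = Q ^ 2 * g) (hx : (x + E) * b₂ = m ^ 2 * g) (hf : den * f = m ^ 2 * i)
    (hη : den * η = i) (hd0 : den ≠ 0) : (x + E - f) * (g + η) = -(f * η) := by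
  have : den * ((x + E) * (g + η)) = den * (g * f) := by
    have e : den * (g + η) = i * b₂ := by rw [hd, hb]; rw [hd] at hη; linear_combination hη - hi
    linear_combination (x + E) * e + i * hx - g * hf
  linear_combination mul_left_cancel₀ hd0 this

/-- The two special values of `k`. -/
theorem special {Q q m x f i den E : ℚ} {k jx : ℤ} (hq : |Q| = q) (hQ : 27 ≤ q)
    (hm : m = (Q - 1) / 2) (hk : k = -1 ∨ k = -2) (hi : i = Q + 4 + 2 * (Q + 1) * k)
    (hd : den = Q ^ 2 + m * i) (hf : den * f = m ^ 2 * i) (hE : i = Q ^ 2 * E)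
    (hxj : 2 * x + 12 + (Q + 1) = 4 * (Q + 1) * jx) :
    |f| ≤ 4 * |m| ∧ |E| ≤ 1 ∧ 3 ≤ |x - f| := by
  have hl := le_abs_self Q
  have hr := neg_abs_le Q
  rw [hq] at hl hr
  have hqq : q ^ 2 = Q ^ 2 := by rw [← hq, sq_abs]
  have hbig : 27 * q ≤ Q ^ 2 := by rw [← hqq]; nlinarith
  have hm1 : (q - 1) / 2 ≤ |m| := by
    have := abs_sub_abs_le_abs_sub Q 1
    rw [hq, abs_one] at this
    rw [hm, abs_div, abs_two]
    linarith
  have hE1 : |E| ≤ 1 := by
    have : Q ^ 2 * |E| = |i| := by rw [hE, abs_mul, abs_pow, sq_abs]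
    have hib : |i| ≤ 4 * q := by
      rw [hi, abs_le]
      rcases hk with rfl | rfl <;> push_cast <;> constructor <;> linarith
    nlinarith [abs_nonneg E]
  have hZ1 : q - 1 ≤ |Q + 1| := by
    have := abs_sub_abs_le_abs_sub Q (-1)
    rw [hq, abs_neg, abs_one, sub_neg_eq_add] at this
    exact this
  have far : ∀ j : ℤ, j ≠ 0 → ∀ y : ℚ, |y| ≤ 13 → 3 ≤ |2 * (Q + 1) * j - y| := fun j hj y hy => by
    have h1 : (1 : ℚ) ≤ |(j : ℚ)| := by exact_mod_cast Int.one_le_abs hj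
    have h2 := abs_sub_abs_le_abs_sub (2 * (Q + 1) * j) y
    rw [abs_mul, abs_mul, abs_two] at h2
    nlinarith
  rcases hk with rfl | rfl
  · push_cast at hi
    have hi' : i = 2 - Q := by rw [hi]; ring
    subst hi'
    have hf2 : f * (Q ^ 2 + 3 * Q - 2) = 2 * m ^ 2 * (2 - Q) := by
      rw [hd, hm] at hf; rw [hm]; linear_combination 2 * hf
    rw [hm] at hf2
    have h1 : (f + 6 + (Q + 1) / 2) * (Q ^ 2 + 3 * Q - 2) = 10 * Q ^ 2 + 16 * Q - 12 := by
      linear_combination hf2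
    have hpos : 0 < Q ^ 2 + 3 * Q - 2 := by linarith
    have h7 : 7 ≤ f + 6 + (Q + 1) / 2 := by
      by_contra h
      nlinarith [mul_lt_mul_of_pos_right (not_le.1 h) hpos]
    have h13 : f + 6 + (Q + 1) / 2 ≤ 13 := by
      by_contra h
      nlinarith [mul_lt_mul_of_pos_right (not_le.1 h) hpos]
    refine ⟨?_, hE1, ?_⟩
    · rw [abs_le]; constructor <;> linarith
    · rcases eq_or_ne jx 0 with rfl | hj
      · push_cast at hxj; rw [le_abs]; right; linarith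
      · have := far jx hj (f + 6 + (Q + 1) / 2) (abs_le.2 ⟨by linarith, h13⟩)
        rwa [show 2 * (Q + 1) * (jx : ℚ) - (f + 6 + (Q + 1) / 2) = x - f by linarith] at this
  · push_cast at hi
    have hi' : i = -3 * Q := by rw [hi]; ring
    subst hi'
    have hQ3 : (24 : ℚ) ≤ |Q - 3| := by
      have := abs_sub_abs_le_abs_sub Q 3
      rw [hq, abs_of_pos (by norm_num : (0:ℚ) < 3)] at this; linarith
    have hQ0 : Q ≠ 0 := fun h => by rw [h, abs_zero] at hq; linarith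
    have h1 : (f - 3 * (Q + 1) / 2) * (Q - 3) = 6 := by
      rw [hd, hm] at hf
      refine mul_right_cancel₀ hQ0 ?_
      linear_combination -2 * hf
    have h6 : |f - 3 * (Q + 1) / 2| ≤ 1 := by
      have h6 : |f - 3 * (Q + 1) / 2| * |Q - 3| = 6 := by rw [← abs_mul, h1]; norm_num
      nlinarith [abs_nonneg (f - 3 * (Q + 1) / 2)]
    rw [abs_le] at h6
    refine ⟨?_, hE1, ?_⟩
    · rw [abs_le]; constructor <;> linarith
    · rcases eq_or_ne jx 1 with rfl | hj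
      · push_cast at hxj; rw [le_abs]; right; linarith
      · have := far (jx - 1) (sub_ne_zero.2 hj) (f - 3 * (Q + 1) / 2 + 6) (abs_le.2 ⟨by linarith, by linarith⟩)
        push_cast at this
        rwa [show 2 * (Q + 1) * ((jx : ℚ) - 1) - (f - 3 * (Q + 1) / 2 + 6) = x - f by linarith] at this

/-- The bounds away from the special values. -/
theorem general {q m x f δ E a Qn : ℚ} (hQ : 27 ≤ q) (hm2 : m ≤ (q + 1) / 2)
    (hδ : δ ≤ 1 / 5) (hx : x ≤ f + δ + E) (hf7 : f ≤ 7 / 10 * m) (hE0 : 0 ≤ E) (ha : 2 * q - 4 ≤ a)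
    (hEa : E * a ≤ Qn + (f + m) + δ) (hn : Qn ≤ m * (2 * q + 7))
    (hf1 : q / 4 < E → f ≤ 1) : x < q - 6 := by
  by_cases hEs : E ≤ q / 4
  · linarith
  · have hf := hf1 (not_le.1 hEs)
    have hE2 : E * (2 * q - 4) ≤ E * a := mul_le_mul_of_nonneg_left ha hE0
    have hbound : m * (2 * q + 7) + (m + 1) + 1 / 5 < (q - 6 - 6 / 5) * (2 * q - 4) := by nlinarith
    have : E < q - 6 - 6 / 5 := lt_of_mul_lt_mul_right (a := 2 * q - 4) (by linarith) (by linarith)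
    linarith

set_option maxHeartbeats 800000 in
/-- The configuration does not occur. -/
theorem no_bad {Q m a g b₂ i : ℤ} (hQ : 27 ≤ |Q|) (hm : 2 * m = Q - 1)
    (ha : 2 * (Q + 1) ∣ a - 1) (ha1 : a ≠ 1) (hg : 2 * (Q + 1) ∣ g - (Q + 4))
    (hi : i * a = Q ^ 2 * g) (hb : b₂ = 1 + a + m * g)
    (heq : (a + 1) * g * b₂ = a * (m * (2 * Q - 7) * b₂ + m ^ 2 * g)) : False := by
  obtain ⟨q, hq⟩ : ∃ q, |Q| = q := ⟨_, rfl⟩
  rw [hq] at hQ
  obtain ⟨ja, hja⟩ := ha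
  obtain ⟨jg, hjg⟩ := hg
  obtain ⟨k, hk⟩ : 2 * (Q + 1) ∣ i - (Q + 4) := ⟨-(i * ja) + m * g + jg, by
    linear_combination hi - i * hja + hjg - (Q + 1) * g * hm⟩
  have habig : 2 * q - 3 ≤ |a| := by
    by_contra h
    have h' : |a| < 2 * q - 3 := not_le.1 h
    have hlt : |a - 1| < 2 * q - 2 := by
      have := abs_sub a 1
      rw [abs_one] at this
      omega
    exact ha1 (by rw [zero_of_small hq hja hlt] at hja; linarith)
  have hgl : q - 4 ≤ |g| := class_lower hq (by omega) ⟨jg, hjg⟩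
  obtain ⟨jx, hjx⟩ : 4 * (Q + 1) ∣ 2 * (g - m * (2 * Q - 7)) + 12 + (Q + 1) :=
    ⟨jg - m + 3, by linear_combination 2 * hjg + 9 * hm⟩
  have hdist := dist_lower hq (by omega) hm ⟨jx, hjx⟩
  have hden0 : Q ^ 2 + m * i ≠ 0 := by
    intro h
    by_cases hk12 : k = -1 ∨ k = -2
    · have e : 2 * (Q ^ 2 + m * i) = 3 * Q ^ 2 + 3 * Q - 4 + 2 * k * (Q ^ 2 - 1) := by
        linear_combination (Q - 1) * hk + i * hm
      rw [h] at e
      rcases hk12 with rfl | rfl <;> nlinarith [sq_abs Q, neg_abs_le Q, le_abs_self Q]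
    · push Not at hk12
      have := den_bound hq hQ hm hk (by omega)
      rw [h, abs_zero] at this
      nlinarith
  have hq' : |(Q : ℚ)| = q := by exact_mod_cast hq
  have hQ' : (27 : ℚ) ≤ q := by exact_mod_cast hQ
  have hm' : (m : ℚ) = ((Q : ℚ) - 1) / 2 := by
    have : 2 * (m : ℚ) = Q - 1 := by exact_mod_cast hm
    linarith
  have hm12 : ((q : ℚ) - 1) / 2 ≤ |(m : ℚ)| ∧ |(m : ℚ)| ≤ ((q : ℚ) + 1) / 2 := by
    have h1 := abs_sub_abs_le_abs_sub (Q : ℚ) 1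
    have h2 := abs_sub (Q : ℚ) 1
    rw [hq', abs_one] at h1 h2
    rw [hm', abs_div, abs_two]
    constructor <;> linarith
  have hgq : (23 : ℚ) ≤ |(g : ℚ)| := by
    have : (23 : ℤ) ≤ |g| := by omega
    exact_mod_cast this
  have ha0 : (a : ℚ) ≠ 0 := Int.cast_ne_zero.2 fun h => by rw [h, abs_zero] at habig; omega
  have hden0' : ((Q : ℚ) ^ 2 + m * i) ≠ 0 := by exact_mod_cast hden0
  obtain ⟨den, hden⟩ : ∃ den : ℚ, den = (Q : ℚ) ^ 2 + m * i := ⟨_, rfl⟩
  rw [← hden] at hden0'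
  obtain ⟨x, hx⟩ : ∃ x : ℚ, x = (g : ℚ) - m * (2 * Q - 7) := ⟨_, rfl⟩
  obtain ⟨E, hEa⟩ : ∃ E : ℚ, E * a = g := ⟨g / a, by field_simp⟩
  obtain ⟨f, hf⟩ : ∃ f : ℚ, den * f = (m : ℚ) ^ 2 * i := ⟨(m : ℚ) ^ 2 * i / den, by field_simp⟩
  obtain ⟨η, hη⟩ : ∃ η : ℚ, den * η = i := ⟨i / den, by field_simp⟩
  have hbq : (b₂ : ℚ) = 1 + a + m * g := by exact_mod_cast hb
  have hiq : (i : ℚ) * a = (Q : ℚ) ^ 2 * g := by exact_mod_cast hi
  have hiE : (i : ℚ) = (Q : ℚ) ^ 2 * E := by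
    refine mul_right_cancel₀ ha0 ?_
    rw [hiq]; linear_combination -(Q : ℚ) ^ 2 * hEa
  have hxE : (x + E) * b₂ = (m : ℚ) ^ 2 * g := by
    have heq' : ((a : ℚ) + 1) * g * b₂ = a * (m * (2 * Q - 7) * b₂ + (m : ℚ) ^ 2 * g) := by exact_mod_cast heq
    refine mul_left_cancel₀ ha0 ?_
    rw [hx]; linear_combination heq' + (b₂ : ℚ) * hEa
  have hkey := key_identity hbq hden hiq hxE hf hη hden0'
  have hηf : (m : ℚ) ^ 2 * η = f := mul_left_cancel₀ hden0' (by rw [hf]; linear_combination (m : ℚ) ^ 2 * hη)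
  have hxj : 2 * x + 12 + ((Q : ℚ) + 1) = 4 * ((Q : ℚ) + 1) * jx := by rw [hx]; exact_mod_cast hjx
  have hm13 : (13 : ℚ) ≤ |(m : ℚ)| := by linarith [hm12.1]
  by_cases hk12 : k = -1 ∨ k = -2
  · have hifact : (i : ℚ) = (Q : ℚ) + 4 + 2 * ((Q : ℚ) + 1) * k := by
      have : i = Q + 4 + 2 * (Q + 1) * k := by linear_combination hk
      exact_mod_cast this
    obtain ⟨hf4, hE1, h3⟩ := special hq' hQ' hm' hk12 hifact hden hf hiE hxj
    have hd := delta_bound (by norm_num) hm13 hgq hf4 hηf le_rfl hkey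
    have : x - f = (x + E - f) - E := by ring
    rw [this] at h3
    linarith [abs_sub (x + E - f) E]
  · push Not at hk12
    have hd20 : 20 * (q : ℚ) ^ 2 ≤ 14 * |den| := by
      have h := den_bound hq hQ hm hk (by omega)
      rw [hden]
      exact_mod_cast h
    have hfm' : |den| * |f - m| = |(m : ℚ)| * (q : ℚ) ^ 2 := by
      rw [← abs_mul, show den * (f - m) = -((m : ℚ) * (Q : ℚ) ^ 2) by
        linear_combination hf - (m : ℚ) * hden, abs_neg, abs_mul, abs_pow, hq']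
    have hfm7 : |f - m| ≤ 7 / 10 * |(m : ℚ)| := by
      by_contra h
      have hq2 : 0 < (q : ℚ) ^ 2 := by positivity
      have hdp : 0 < |den| := abs_pos.2 hden0'
      have := mul_lt_mul_of_pos_left (not_le.1 h) hdp
      have := mul_le_mul_of_nonneg_right hd20 (abs_nonneg (m : ℚ))
      nlinarith
    have hf17 : |f| ≤ 17 / 10 * |(m : ℚ)| := by linarith [abs_sub_abs_le_abs_sub f (m : ℚ)]
    have hd := delta_bound (by norm_num) hm13 hgq hf17 hηf (by norm_num) hkey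
    have hd' : |x + E - f| ≤ 1 / 5 := by linarith
    have htri : |x - m| ≤ |f - m| + |x + E - f| + |E| := by
      have : x - m = (f - m) + (x + E - f) - E := by ring
      rw [this]
      linarith [abs_sub ((f - (m : ℚ)) + (x + E - f)) E, abs_add_le (f - (m : ℚ)) (x + E - f)]
    have hxZ : (q : ℚ) - 6 ≤ |x - m| := by
      have : ((q - 6 : ℤ) : ℚ) ≤ ((|g - m * (2 * Q - 7) - m| : ℤ) : ℚ) := Int.cast_le.2 hdist
      push_cast at this
      rw [hx]; exact this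
    have hA : 2 * (q : ℚ) - 4 ≤ |(a : ℚ) + 1| := by
      have := abs_sub_abs_le_abs_sub (a : ℚ) (-1)
      rw [abs_neg, abs_one, sub_neg_eq_add] at this
      have h2 : ((2 * q - 3 : ℤ) : ℚ) ≤ ((|a| : ℤ) : ℚ) := Int.cast_le.2 habig
      push_cast at h2; linarith
    have hEA : |E| * |(a : ℚ) + 1| ≤ |(m : ℚ) * (2 * Q - 7)| + (|f - m| + |(m : ℚ)|) + |x + E - f| := by
      rw [← abs_mul, show E * ((a : ℚ) + 1) = m * (2 * Q - 7) + f + (x + E - f) by
        rw [hx]; linear_combination hEa]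
      linarith [abs_add_le ((m : ℚ) * (2 * Q - 7) + f) (x + E - f), abs_add_le ((m : ℚ) * (2 * Q - 7)) f,
        abs_sub_abs_le_abs_sub f (m : ℚ)]
    have hn : |(m : ℚ) * (2 * Q - 7)| ≤ |(m : ℚ)| * (2 * q + 7) := by
      rw [abs_mul]
      refine mul_le_mul_of_nonneg_left ?_ (abs_nonneg _)
      have := abs_sub (2 * (Q : ℚ)) 7
      rw [abs_mul, abs_two, hq', abs_of_pos (by norm_num : (0:ℚ) < 7)] at this
      exact this
    have := general hQ' hm12.2 hd' htri hfm7 (abs_nonneg E) hA hEA hn fun hEl => by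
      have hiabs : (q : ℚ) ^ 3 / 4 ≤ |(i : ℚ)| := by
        rw [hiE, abs_mul, abs_pow, hq']; nlinarith
      have hdl : |(m : ℚ)| * |(i : ℚ)| - (q : ℚ) ^ 2 ≤ |den| := by
        have := abs_sub_abs_le_abs_sub ((m : ℚ) * i) (-(Q : ℚ) ^ 2)
        rw [abs_mul, abs_neg, abs_pow, hq', sub_neg_eq_add] at this
        rw [hden, add_comm]; exact this
      have hbig : |(m : ℚ)| * (q : ℚ) ^ 2 ≤ |den| := by
        have := mul_le_mul_of_nonneg_left hiabs (abs_nonneg (m : ℚ))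
        have h2 : 0 ≤ (q : ℚ) ^ 2 := by positivity
        have h27 : 27 * (q : ℚ) ^ 2 ≤ (q : ℚ) ^ 3 := by
          rw [pow_succ (q : ℚ) 2, mul_comm]; exact mul_le_mul_of_nonneg_left hQ' h2
        have h3 : 27 * (q : ℚ) ^ 2 / 4 * |(m : ℚ)| ≤ |(m : ℚ)| * ((q : ℚ) ^ 3 / 4) := by
          nlinarith [mul_le_mul_of_nonneg_right h27 (abs_nonneg (m : ℚ))]
        nlinarith
      have hpos : 0 < |den| := abs_pos.2 hden0'
      nlinarith [abs_nonneg (f - (m : ℚ))]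
    linarith

/-- The two characters of one coordinate vector cannot have the same degree. -/
theorem no_bad_equal {Q m g : ℤ} (hQ : 11 ≤ |Q|) (hm : 2 * m = Q - 1) (hg : g ≠ 0)
    (heq : g * (g - m * (2 * Q - 8)) = Q - 4) : False := by
  have h1 : 1 ≤ |g| := Int.one_le_abs hg
  have hne : g - m * (2 * Q - 8) ≠ 0 := by
    intro h; rw [h, mul_zero] at heq
    rw [show Q = 4 by linarith] at hQ; norm_num at hQ
  have h2 := Int.one_le_abs hne
  have h3 : |g| * |g - m * (2 * Q - 8)| = |Q - 4| := by rw [← abs_mul, heq]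
  have h4 : |g| ≤ |Q - 4| := by nlinarith
  have h5 : |g - m * (2 * Q - 8)| ≤ |Q - 4| := by nlinarith
  have h6 : |m| * (2 * |Q - 4|) ≤ 2 * |Q - 4| := by
    have := abs_sub g (g - m * (2 * Q - 8))
    rw [sub_sub_cancel, show (2 * Q - 8) = 2 * (Q - 4) by ring, abs_mul, abs_mul, abs_two] at this
    rw [show (2 * Q - 8) = 2 * (Q - 4) by ring] at h5
    omega
  have h7 : 1 ≤ |Q - 4| := Int.one_le_abs fun h => by rw [show Q = 4 by linarith] at hQ; norm_num at hQ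
  have h8 : 2 ≤ |m| := by
    rcases abs_cases Q with ⟨e, _⟩ | ⟨e, _⟩ <;> rcases abs_cases m with ⟨e', _⟩ | ⟨e', _⟩ <;> omega
  nlinarith

end Cfsg.Agent.Lib.JankoThompson.Arith
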