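/-
The equations for the degrees of the principal block of a simple group with an involution
centraliser `2 × PSL₂(q)`: the configuration of the small Ree groups.
-/
import Mathlib

set_option autoImplicit false

namespace Cfsg.Agent.Lib.JankoThompson.Arith

/-- The configuration in which the order is that of a small Ree group. -/
theorem ree {Q a d₁ d₂ b₁ b₂ : ℤ} {K : ℚ} (hQ : 11 ≤ |Q|)
    (ha : a ≠ 0) (hd₁ : d₁ ≠ 0) (hd₂ : d₂ ≠ 0) (hb₁ : b₁ ≠ 0) (hb₂ : b₂ ≠ 0)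
    (hx : a - d₂ ≠ 0) (hy : d₁ + 2 * (b₁ + b₂) - 1 ≠ 0)
    (hs : 1 + a + d₁ + d₂ = 0) (hs' : b₁ + b₂ + d₁ + d₂ = 0)
    (hA : 1 + 1 / (a : ℚ) + (Q : ℚ) ^ 2 * (1 / (d₁ : ℚ) + 1 / (d₂ : ℚ)) = K * ((Q : ℚ) - 1))
    (hB : (((Q : ℚ) - 1) / 2) ^ 2 * (1 / (b₁ : ℚ) + 1 / (b₂ : ℚ)) +
      (Q : ℚ) ^ 2 * (1 / (d₁ : ℚ) + 1 / (d₂ : ℚ)) = K * (3 * (Q : ℚ) - 1) / ((Q : ℚ) + 1))
    (hF : (Q : ℚ) ^ 2 / d₂ - 1 / (a : ℚ) + ((Q : ℚ) - 1) ^ 2 / ((a : ℚ) - d₂) = 0)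
    (hF₁ : 1 - (Q : ℚ) ^ 2 / d₁ - 2 * (((Q : ℚ) - 1) / 2) ^ 2 * (1 / (b₁ : ℚ) + 1 / (b₂ : ℚ)) +
      (3 * ((Q : ℚ) - 1)) ^ 2 / ((d₁ : ℚ) + 2 * (b₁ + b₂) - 1) = K * ((Q : ℚ) + 1)) :
    a = -(Q ^ 2 - Q + 1) ∧ d₂ = Q * a ∧ K * ((Q : ℚ) * ((Q : ℚ) ^ 2 - Q + 1)) = (Q : ℚ) ^ 2 - 1 ∧
      3 * (b₁ - b₂) ^ 2 = Q * (Q - 1) ^ 2 * (Q + 1) ^ 2 := by
  have hQ0 : Q ≠ 0 := by intro h; rw [h] at hQ; norm_num at hQ
  have hQ1 : Q + 1 ≠ 0 := by rcases abs_cases Q with ⟨h, _⟩ | ⟨h, _⟩ <;> omega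
  have hQ2 : Q - 1 ≠ 0 := by rcases abs_cases Q with ⟨h, _⟩ | ⟨h, _⟩ <;> omega
  have hQ0' : (Q : ℚ) ≠ 0 := by exact_mod_cast hQ0
  have hQ1' : (Q : ℚ) + 1 ≠ 0 := by exact_mod_cast hQ1
  have ha' : (a : ℚ) ≠ 0 := by exact_mod_cast ha
  have hd₁' : (d₁ : ℚ) ≠ 0 := by exact_mod_cast hd₁
  have hd₂' : (d₂ : ℚ) ≠ 0 := by exact_mod_cast hd₂
  have hb₁' : (b₁ : ℚ) ≠ 0 := by exact_mod_cast hb₁
  have hb₂' : (b₂ : ℚ) ≠ 0 := by exact_mod_cast hb₂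
  have hx' : (a : ℚ) - d₂ ≠ 0 := by exact_mod_cast hx
  have h2 : d₂ = Q * a := by
    have : ((Q : ℚ) * a - d₂) ^ 2 = 0 := by
      field_simp at hF
      linear_combination hF
    have := pow_eq_zero_iff (n := 2) (by norm_num) |>.1 this
    exact_mod_cast (sub_eq_zero.1 this).symm
  have h1 : d₁ = -1 - (Q + 1) * a := by rw [h2] at hs; linear_combination hs
  have hb : b₁ + b₂ = 1 + a := by omega
  have hy' : (d₁ : ℚ) + 2 * (b₁ + b₂) - 1 = -((Q : ℚ) - 1) * a := by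
    have : d₁ + 2 * (b₁ + b₂) - 1 = -(Q - 1) * a := by rw [h1, hb]; ring
    exact_mod_cast this
  rw [hy'] at hF₁
  have hQ2' : (Q : ℚ) - 1 ≠ 0 := by exact_mod_cast hQ2
  have e1 : (3 * ((Q : ℚ) - 1)) ^ 2 / (-((Q : ℚ) - 1) * a) = -9 * ((Q : ℚ) - 1) / a := by
    field_simp; ring
  rw [e1] at hF₁
  have h2' : (d₂ : ℚ) = Q * a := by exact_mod_cast h2
  have eS : (Q : ℚ) ^ 2 * (1 / (d₁ : ℚ) + 1 / (d₂ : ℚ)) = (Q : ℚ) ^ 2 / d₁ + Q / a := by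
    rw [h2']; field_simp
  rw [eS] at hA hB
  have hK : K * ((Q : ℚ) * a) = -((Q : ℚ) ^ 2 - 1) := by
    have hB' : (((Q : ℚ) - 1) / 2) ^ 2 * (1 / (b₁ : ℚ) + 1 / (b₂ : ℚ)) =
        K * (3 * (Q : ℚ) - 1) / ((Q : ℚ) + 1) - ((Q : ℚ) ^ 2 / d₁ + Q / a) := by linear_combination hB
    have key : -8 * ((Q : ℚ) - 1) / a = 8 * (K * Q) / ((Q : ℚ) + 1) := by
      have hk : K * ((Q : ℚ) + 1) + 2 * (K * (3 * (Q : ℚ) - 1) / ((Q : ℚ) + 1)) - K * ((Q : ℚ) - 1) =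
          8 * (K * Q) / ((Q : ℚ) + 1) := by field_simp; ring
      rw [← hk]
      linear_combination hF₁ - hA + 2 * hB'
    field_simp at key
    linear_combination -key
  have h1' : (d₁ : ℚ) = -1 - ((Q : ℚ) + 1) * a := by exact_mod_cast h1
  have quad : ((Q : ℤ) * a + 1) * (a + (Q ^ 2 - Q + 1)) = 0 := by
    have e : ((Q : ℚ) * a + 1) * ((a : ℚ) + ((Q : ℚ) ^ 2 - Q + 1)) * ((Q : ℚ) + 1) = 0 := by
      field_simp at hA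
      rw [h1'] at hA
      linear_combination -(Q : ℚ) * hA - ((-1 - ((Q : ℚ) + 1) * a) * ((Q : ℚ) - 1)) * hK
    have := (mul_eq_zero.1 e).resolve_right hQ1'
    exact_mod_cast this
  have hA1 : a = -(Q ^ 2 - Q + 1) := by
    rcases mul_eq_zero.1 quad with h | h
    · exfalso
      have hdvd : Q ∣ 1 := ⟨-a, by linear_combination h⟩
      have := Int.isUnit_iff.1 (isUnit_of_dvd_one hdvd)
      rcases this with rfl | rfl <;> norm_num at hQ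
    · linear_combination h
  have hA1' : (a : ℚ) = -((Q : ℚ) ^ 2 - Q + 1) := by exact_mod_cast hA1
  refine ⟨hA1, h2, by rw [hA1'] at hK; linear_combination -hK, ?_⟩
  have hd : (d₁ : ℚ) = (Q : ℚ) ^ 3 := by rw [h1', hA1']; ring
  have hN : (Q : ℚ) ^ 2 - Q + 1 ≠ 0 := by nlinarith [sq_nonneg (2 * (Q : ℚ) - 1)]
  have hN2 : (Q : ℚ) * ((Q : ℚ) - 1) + 1 ≠ 0 := fun h => hN (by linear_combination h)
  have hK' : K = ((Q : ℚ) ^ 2 - 1) / (Q * ((Q : ℚ) ^ 2 - Q + 1)) := by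
    rw [eq_div_iff (mul_ne_zero hQ0' hN)]
    rw [hA1'] at hK; linear_combination -hK
  have hb' : (b₁ : ℚ) + b₂ = 1 + a := by exact_mod_cast hb
  have hP : (((Q : ℚ) - 1) / 2) ^ 2 * (1 + (a : ℚ)) = 3 * ((Q : ℚ) - 1) / ((Q : ℚ) ^ 2 - Q + 1) * (b₁ * b₂) := by
    have hR : K * (3 * (Q : ℚ) - 1) / ((Q : ℚ) + 1) - ((Q : ℚ) ^ 2 / d₁ + Q / a) =
        3 * ((Q : ℚ) - 1) / ((Q : ℚ) ^ 2 - Q + 1) := by
      rw [hK', hd, hA1']; field_simp; ring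
    rw [← hR]
    field_simp at hB ⊢
    rw [← hb']
    linear_combination hB
  have final : (3 : ℚ) * ((b₁ : ℚ) - b₂) ^ 2 = Q * ((Q : ℚ) - 1) ^ 2 * ((Q : ℚ) + 1) ^ 2 := by
    field_simp at hP
    have e : ((b₁ : ℚ) - b₂) ^ 2 = (1 + (a : ℚ)) ^ 2 - 4 * (b₁ * b₂) := by rw [← hb']; ring
    rw [e, hA1']
    rw [hA1'] at hP
    have h12 : (12 : ℚ) * (b₁ * b₂) = ((Q : ℚ) - 1) * (1 + -((Q : ℚ) ^ 2 - Q + 1)) * ((Q : ℚ) ^ 2 - Q + 1) := by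
      linear_combination -hP
    linear_combination -h12
  exact_mod_cast final

end Cfsg.Agent.Lib.JankoThompson.Arith
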