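/-
The quintic of the configuration with seven characters in the principal block.
-/
import Mathlib

set_option autoImplicit false

namespace Cfsg.Agent.Lib.JankoThompson.Arith.Quintic

/-- A coefficient of the quintic. -/
def c0 (h : ℚ) : ℚ := -8 * h ^ 4 + 48 * h ^ 3 - 76 * h ^ 2 + 45 * h - 9

/-- A coefficient of the quintic. -/
def c1 (h : ℚ) : ℚ := -16 * h ^ 6 + 112 * h ^ 5 - 316 * h ^ 4 + 580 * h ^ 3 - 615 * h ^ 2 + 315 * h - 60

/-- A coefficient of the quintic. -/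
def c2 (h : ℚ) : ℚ := 96 * h ^ 5 - 384 * h ^ 4 + 880 * h ^ 3 - 1060 * h ^ 2 + 586 * h - 118

/-- A coefficient of the quintic. -/
def c3 (h : ℚ) : ℚ := 64 * h ^ 8 - 448 * h ^ 7 + 1440 * h ^ 6 - 2656 * h ^ 5 + 3056 * h ^ 4 - 1992 * h ^ 3 + 470 * h ^ 2 + 126 * h - 60

/-- A coefficient of the quintic. -/
def c4 (h : ℚ) : ℚ := 64 * h ^ 6 - 304 * h ^ 5 + 680 * h ^ 4 - 736 * h ^ 3 + 344 * h ^ 2 - 39 * h - 9

/-- A coefficient of the quintic. -/
def c5 (h : ℚ) : ℚ := 28 * h ^ 4 - 60 * h ^ 3 + 41 * h ^ 2 - 9 * h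

/-- The coefficient bounds, from positivity in the shifted variable. -/
theorem bounds {h : ℚ} (hh : 14 ≤ |h|) :
    20 * h ^ 4 ≤ c5 h ∧ c5 h ≤ 40 * h ^ 4 ∧ 1000 * h ^ 12 ≤ 4 * c5 h * c3 h - c4 h ^ 2 ∧
      |c2 h| ≤ 15 * h ^ 6 ∧ |c1 h| ≤ 30 * h ^ 6 ∧ |c0 h| ≤ 15 * h ^ 4 := by
  simp only [abs_le]
  rcases le_abs.1 hh with hs | hs
  · obtain ⟨s, hs0, rfl⟩ : ∃ s : ℚ, 0 ≤ s ∧ h = s + 14 := ⟨h - 14, by linarith, by ring⟩
    simp only [c0, c1, c2, c3, c4, c5]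
    refine ⟨?_, ?_, ?_, ⟨?_, ?_⟩, ⟨?_, ?_⟩, ⟨?_, ?_⟩⟩ <;> rw [← sub_nonneg] <;> ring_nf <;> positivity
  · obtain ⟨s, hs0, rfl⟩ : ∃ s : ℚ, 0 ≤ s ∧ h = -(s + 14) := ⟨-h - 14, by linarith, by ring⟩
    simp only [c0, c1, c2, c3, c4, c5]
    refine ⟨?_, ?_, ?_, ⟨?_, ?_⟩, ⟨?_, ?_⟩, ⟨?_, ?_⟩⟩ <;> rw [← sub_nonneg] <;> ring_nf <;> positivity

/-- The quintic has no root of absolute value at least one. -/
theorem no_root {h A : ℚ} (hh : 14 ≤ |h|) (hA : 1 ≤ |A|)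
    (he : c5 h * A ^ 5 + c4 h * A ^ 4 + c3 h * A ^ 3 + c2 h * A ^ 2 + c1 h * A + c0 h = 0) : False := by
  obtain ⟨b5, b5', bd, b2, b1, b0⟩ := bounds hh
  set T := c5 h * A ^ 2 + c4 h * A + c3 h with hT
  have hh2 : 196 ≤ h ^ 2 := by nlinarith [sq_abs h]
  have hh0 : h ≠ 0 := fun h0 => by rw [h0] at hh2; norm_num at hh2
  have hh4 : 0 < h ^ 4 := by positivity
  have hT' : 6 * h ^ 8 ≤ T := by
    have e : 4 * c5 h * T = (2 * c5 h * A + c4 h) ^ 2 + (4 * c5 h * c3 h - c4 h ^ 2) := by rw [hT]; ring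
    have h1 : 1000 * h ^ 12 ≤ 4 * c5 h * T := by rw [e]; nlinarith [sq_nonneg (2 * c5 h * A + c4 h)]
    by_contra hlt
    have h2 : 4 * c5 h * T ≤ 4 * c5 h * (6 * h ^ 8) :=
      mul_le_mul_of_nonneg_left (le_of_lt (not_le.1 hlt)) (by linarith)
    have h3 : 4 * c5 h * (6 * h ^ 8) ≤ 4 * (40 * h ^ 4) * (6 * h ^ 8) :=
      mul_le_mul_of_nonneg_right (by linarith) (by positivity)
    have h4 : 0 < h ^ 12 := by positivity
    linarith [show 4 * (40 * h ^ 4) * (6 * h ^ 8) = 960 * h ^ 12 by ring]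
  have e : |A| ^ 3 * T = |c2 h * A ^ 2 + c1 h * A + c0 h| := by
    have hTp : 0 ≤ T := le_trans (by positivity) hT'
    rw [← abs_pow, ← abs_of_nonneg hTp, ← abs_mul, ← abs_neg]
    congr 1
    rw [hT]; linear_combination -he
  have htri : |c2 h * A ^ 2 + c1 h * A + c0 h| ≤ 60 * h ^ 6 * |A| ^ 3 := by
    have hA2 : |A| ^ 2 ≤ |A| ^ 3 := pow_le_pow_right₀ hA (by norm_num)
    have hA1 : |A| ≤ |A| ^ 3 := by simpa using pow_le_pow_right₀ hA (show 1 ≤ 3 by norm_num)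
    have hA0 : (1 : ℚ) ≤ |A| ^ 3 := one_le_pow₀ hA
    have h46 : h ^ 4 ≤ h ^ 6 := by nlinarith
    calc |c2 h * A ^ 2 + c1 h * A + c0 h| ≤ |c2 h * A ^ 2| + |c1 h * A| + |c0 h| :=
          (abs_add_le _ _).trans (by gcongr; exact abs_add_le _ _)
      _ ≤ 15 * h ^ 6 * |A| ^ 3 + 30 * h ^ 6 * |A| ^ 3 + 15 * h ^ 6 * |A| ^ 3 := by
          rw [abs_mul, abs_mul, abs_pow]
          refine add_le_add (add_le_add ?_ ?_) ?_
          · exact mul_le_mul b2 hA2 (by positivity) (by positivity)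
          · exact mul_le_mul b1 hA1 (abs_nonneg _) (by positivity)
          · calc |c0 h| ≤ 15 * h ^ 6 * 1 := by linarith
              _ ≤ _ := mul_le_mul_of_nonneg_left hA0 (by positivity)
      _ = _ := by ring
  have h6 : 0 < h ^ 6 := by positivity
  have hpos : 0 < |A| ^ 3 := by positivity
  have h5 := mul_le_mul_of_nonneg_left hT' hpos.le
  have h8 : 196 * h ^ 6 ≤ h ^ 8 := by nlinarith
  nlinarith

/-- The two equations of that configuration have no common solution. -/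
theorem no_config {h m g A : ℚ} (hm : m = h - 1) (hh : 14 ≤ |h|) (hA : 1 ≤ |A|)
    (e1 : (2 * h - 1) * g * (A + 1) ^ 2 = 4 * m ^ 2 * A * (2 * h * A + 1))
    (e2 : g * (A + h) * (1 + h * A + m * g) =
      A * (m * (4 * h - 9) * (1 + h * A + m * g) + 4 * m ^ 2 * g)) : False := by
  subst hm
  have hA0 : A ≠ 0 := fun h0 => by rw [h0, abs_zero] at hA; norm_num at hA
  have hQ : 2 * h - 1 ≠ 0 := fun h0 => by
    rw [show h = 1 / 2 by linarith] at hh; norm_num at hh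
  set d := (2 * h - 1) * (A + 1) ^ 2 with hd
  set n := 4 * (h - 1) ^ 2 * A * (2 * h * A + 1) with hn
  have hgd : g * d = n := by rw [hd, hn]; linear_combination e1
  set R := (1 + h * A) * d + (h - 1) * n with hR
  have key : n * (A + h) * R - A * ((h - 1) * (4 * h - 9) * R * d + 4 * (h - 1) ^ 2 * n * d) = 0 := by
    rw [hR, ← hgd]
    linear_combination d ^ 2 * e2
  have : A * (c5 h * A ^ 5 + c4 h * A ^ 4 + c3 h * A ^ 3 + c2 h * A ^ 2 + c1 h * A + c0 h) = 0 := by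
    rw [hR, hn, hd] at key
    simp only [c0, c1, c2, c3, c4, c5]
    linear_combination key
  exact no_root hh hA ((mul_eq_zero.1 this).resolve_left hA0)

end Cfsg.Agent.Lib.JankoThompson.Arith.Quintic
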