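/-
Small arithmetic facts on the degrees of the principal block of a simple group with an involution
centraliser `2 × PSL₂(q)`.
-/
import Mathlib

set_option autoImplicit false

namespace Cfsg.Agent.Lib.JankoThompson.Arith

/-- The two equations of the fused case. -/
theorem fused {Q E D K : ℚ} (hK : K ≠ 0) (hD : D = -1 - E) (hE : E ≠ 0) (hE1 : D ≠ 0)
    (hE2 : D - 1 ≠ 0)
    (hA : 1 + (Q + 1) ^ 2 / E + Q ^ 2 / D = K * (Q - 1))
    (hF : 1 - Q ^ 2 / D + (Q - 1) ^ 2 / (D - 1) = K * (Q + 1) / 3) : E * (Q - 2) = Q + 1 := by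
  have e1 : (E + Q + 1) ^ 2 = -(K * (Q - 1)) * (E * D) := by
    field_simp at hA
    subst hD
    linear_combination -hA
  have e2 : (E + Q + 1) ^ 2 * 3 = K * (Q + 1) * (D * (D - 1)) := by
    field_simp at hF
    subst hD
    linear_combination hF
  have e3 : K * D * ((Q + 1) * (D - 1) + 3 * (Q - 1) * E) = 0 := by linear_combination 3 * e1 - e2
  have e4 := (mul_eq_zero.1 e3).resolve_left (mul_ne_zero hK hE1)
  subst hD
  linear_combination (1 / 2 : ℚ) * e4

/-- No integer solution with eight characters. -/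
theorem fused_eight {Q A : ℤ} (hQ : 11 ≤ |Q|) (h : (Q + 1) * A * (Q - 2) = Q + 1) : False := by
  have h0 : Q + 1 ≠ 0 := by rcases abs_cases Q with ⟨e, _⟩ | ⟨e, _⟩ <;> omega
  have h1 : A * (Q - 2) = 1 := mul_left_cancel₀ h0 (by linear_combination h)
  rcases Int.eq_one_or_neg_one_of_mul_eq_one' h1 with ⟨_, h2⟩ | ⟨_, h2⟩ <;>
    rcases abs_cases Q with ⟨e, _⟩ | ⟨e, _⟩ <;> omega

/-- No integer solution with seven characters. -/
theorem fused_seven {Q P : ℤ} (hQ : 11 ≤ |Q|) (h : 2 * P * (Q - 2) = Q + 1) : False := by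
  have hP : P ≠ 0 := fun h0 => by
    rw [h0] at h; simp only [mul_zero, zero_mul] at h
    rcases abs_cases Q with ⟨e, _⟩ | ⟨e, _⟩ <;> omega
  have h1 : 2 * |Q - 2| ≤ |Q + 1| := by
    rw [← h, abs_mul, abs_mul, abs_two]
    nlinarith [Int.one_le_abs hP, abs_nonneg (Q - 2)]
  rcases abs_cases Q with ⟨e, _⟩ | ⟨e, _⟩ <;> rcases abs_cases (Q - 2) with ⟨e', _⟩ | ⟨e', _⟩ <;>
    rcases abs_cases (Q + 1) with ⟨e'', _⟩ | ⟨e'', _⟩ <;> omega

/-- Two characters with vanishing class equation have equal degree. -/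
theorem eq_of_pair {m b c : ℚ} (hm : m ≠ 0) (hb : b ≠ 0) (hc : c ≠ 0) (hbc : b + c ≠ 0)
    (h : m ^ 2 / b + m ^ 2 / c - (2 * m) ^ 2 / (b + c) = 0) : b = c := by
  field_simp at h
  have : (b - c) ^ 2 = 0 := mul_left_cancel₀ (pow_ne_zero 2 hm) (by linear_combination h)
  exact sub_eq_zero.1 (pow_eq_zero_iff (n := 2) (by norm_num) |>.1 this)

/-- The class equation of a triple `R + Y + W`. -/
theorem eq_of_triple {m τ R Y : ℚ} (hR : R ≠ 0) (hY : Y ≠ 0) (hRY : R + Y ≠ 0)
    (h : (2 * m) ^ 2 / R + τ ^ 2 / Y - (2 * m + τ) ^ 2 / (R + Y) = 0) : τ * R = 2 * m * Y := by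
  field_simp at h
  have : (τ * R - 2 * m * Y) ^ 2 = 0 := by linear_combination h
  exact sub_eq_zero.1 (pow_eq_zero_iff (n := 2) (by norm_num) |>.1 this)

/-- The same class equation with opposite sign on `R` has value zero as well. -/
theorem triple_neg {m τ R Y : ℚ} (hR : R ≠ 0)
    (h : τ * R = 2 * m * Y) : -((2 * m) ^ 2 / R) + τ ^ 2 / Y + (2 * m - τ) ^ 2 / (R - Y) = 0 := by
  have hτ : τ = 2 * m * Y / R := by field_simp; linear_combination h
  subst hτ
  field_simp
  ring

/-- For `q = 3` with eight characters one degree is `1`. -/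
theorem three_eight {a b₁ b₂ : ℚ} (ha : a ≠ 0) (hb₁ : b₁ ≠ 0) (hb₂ : b₂ ≠ 0) (h1 : 1 + a ≠ 0)
    (hs : b₁ + b₂ = 1 + a) (h : 1 / b₁ + 1 / b₂ = 1 + 1 / a) : b₁ = 1 ∨ b₂ = 1 := by
  field_simp at h
  have h2 : b₁ * b₂ = a := mul_left_cancel₀ h1 (by linear_combination -h + a * hs)
  have : (b₁ - 1) * (b₂ - 1) = 0 := by linear_combination h2 - hs
  rcases mul_eq_zero.1 this with e | e
  · exact Or.inl (by linarith)
  · exact Or.inr (by linarith)

/-- For `q = 3` with seven characters. -/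
theorem three_seven {p r u : ℤ} (hp : p ≠ 0) (hr : r ≠ 0) (hu : u ≠ 0) (hs : u + 2 * r = 1 + 2 * p)
    (h : 1 + 2 / (p : ℚ) = 1 / (u : ℚ) + 2 / (r : ℚ)) (hu1 : u ≠ 1) :
    (p = -1 ∧ r = -1) ∨ (p = 1 ∧ r = 1) ∨ (p = -3 ∧ r = 5) ∨ (p = -5 ∧ r = 3) := by
  have hp' : (p : ℚ) ≠ 0 := Int.cast_ne_zero.2 hp
  have hr' : (r : ℚ) ≠ 0 := Int.cast_ne_zero.2 hr
  have hu' : (u : ℚ) ≠ 0 := Int.cast_ne_zero.2 hu
  field_simp at h
  have hq : p * u * r + 2 * u * r = r * p + 2 * u * p := by
    have : ((p * u * r + 2 * u * r : ℤ) : ℚ) = ((r * p + 2 * u * p : ℤ) : ℚ) := by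
      push_cast; linear_combination h
    exact_mod_cast this
  have hu2 : u = 1 + 2 * p - 2 * r := by omega
  subst hu2
  have hd : p - r ≠ 0 := fun e => hu1 (by omega)
  have h2 : p * r - 2 * p + 2 * r = 1 := mul_left_cancel₀ (mul_ne_zero two_ne_zero hd) (by linear_combination hq)
  have h3 : (p + 2) * (r - 2) = -3 := by linear_combination h2
  have hdiv : p + 2 ∣ 3 := ⟨-(r - 2), by linear_combination h3⟩
  have hle : p + 2 ≤ 3 := Int.le_of_dvd (by norm_num) hdiv
  have hge : -(p + 2) ≤ 3 := Int.le_of_dvd (by norm_num) (neg_dvd.2 hdiv)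
  have hcases : p = -5 ∨ p = -4 ∨ p = -3 ∨ p = -2 ∨ p = -1 ∨ p = 0 ∨ p = 1 := by omega
  rcases hcases with rfl | rfl | rfl | rfl | rfl | rfl | rfl <;> omega

theorem klein_index_sorted {n x y z : ℤ} (hn : n % 2 = 1) (hn3 : 3 ∣ n) (hn0 : 0 < n)
    (hx : x % 4 = 1) (hy : y % 4 = 1) (hz : z % 4 = 1) (hs : 1 + x + y + z = 0) (hxy : x ≤ y) (hyz : y ≤ z)
    (h : n * ((x + 1) * (y + 1) * (z + 1)) = 8 * (x * y * z)) : n = 3 ∨ n = 15 := by
  by_contra hne
  push Not at hne
  have hn9 : 9 ≤ n := by omega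
  have hz1 : 1 ≤ z := by omega
  obtain ⟨b, rfl⟩ : ∃ b, x = -b := ⟨-x, by omega⟩
  rcases le_or_gt 1 y with hy1 | hy1
  · have hb : 3 ≤ b := by omega
    have hX : 0 ≤ (b - 1) * (y + 1) * (z + 1) :=
      mul_nonneg (mul_nonneg (by omega) (by omega)) (by omega)
    have h9 := mul_le_mul_of_nonneg_right hn9 hX
    rcases eq_or_ne y 1 with rfl | hy5
    · have : b = z + 2 := by omega
      subst this
      nlinarith
    · have : b = y + z + 1 := by omega
      subst this
      nlinarith [mul_nonneg (show (0:ℤ) ≤ y - 5 by omega) (show (0:ℤ) ≤ z - 5 by omega)]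
  · obtain ⟨c, rfl⟩ : ∃ c, y = -c := ⟨-y, by omega⟩
    have hc : 3 ≤ c := by omega
    have hz' : z = b + c - 1 := by omega
    subst hz'
    have hX : 0 ≤ (b - 1) * (c - 1) * (b + c) := mul_nonneg (mul_nonneg (by omega) (by omega)) (by omega)
    have h' : n * ((b - 1) * (c - 1) * (b + c)) = 8 * (b * c * (b + c - 1)) := by linear_combination h
    rcases eq_or_ne c 3 with rfl | hc3
    · rcases eq_or_ne b 3 with rfl | hb3
      · omega
      · have hb7 : 7 ≤ b := by omega
        have hn12 : n ≤ 12 := by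
          by_contra hn13
          have := mul_le_mul_of_nonneg_right (show 15 ≤ n by omega) hX
          nlinarith
        have hn9' : n = 9 := by omega
        subst hn9'
        nlinarith
    · have hc7 : 7 ≤ c := by omega
      have hb7 : 7 ≤ b := by omega
      have hbc : 36 * (b * c) ≤ 49 * ((b - 1) * (c - 1)) := by
        nlinarith [mul_nonneg (show (0:ℤ) ≤ b - 7 by omega) (show (0:ℤ) ≤ c - 7 by omega)]
      have hn9' : n = 9 := by
        by_contra hn'
        have := mul_le_mul_of_nonneg_right (show 15 ≤ n by omega) hX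
        have := mul_le_mul_of_nonneg_right hbc (show (0:ℤ) ≤ b + c by omega)
        nlinarith [mul_pos (mul_pos (show (0:ℤ) < b by omega) (show (0:ℤ) < c by omega)) (show (0:ℤ) < b + c by omega)]
      subst hn9'
      have hc16 : c ≤ 16 := by
        by_contra hcc
        have hp : 17 * (b + c - 17) ≤ b * c := by
          nlinarith [mul_nonneg (show (0:ℤ) ≤ b - 17 by omega) (show (0:ℤ) ≤ c - 17 by omega)]
        have := mul_le_mul_of_nonneg_right hp (show (0:ℤ) ≤ b + c + 8 by omega)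
        nlinarith [mul_nonneg (show (0:ℤ) ≤ b + c - 34 by omega) (show (0:ℤ) ≤ b + c by omega)]
      have hc' : c = 7 ∨ c = 11 ∨ c = 15 := by omega
      rcases hc' with rfl | rfl | rfl
      · nlinarith
      · rcases le_or_gt b 17 with hb | hb
        · nlinarith
        · nlinarith [show 19 ≤ b by omega]
      · nlinarith

/-- The possible indices from the order formula with a fused four group. -/
theorem klein_index {n x y z : ℤ} (hn : n % 2 = 1) (hn3 : 3 ∣ n) (hn0 : 0 < n)
    (hx : x % 4 = 1) (hy : y % 4 = 1) (hz : z % 4 = 1) (hs : 1 + x + y + z = 0)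
    (h : n * ((x + 1) * (y + 1) * (z + 1)) = 8 * (x * y * z)) : n = 3 ∨ n = 15 := by
  rcases le_total x y with h1 | h1 <;> rcases le_total y z with h2 | h2 <;> rcases le_total x z with h3 | h3
  all_goals first
    | exact klein_index_sorted hn hn3 hn0 hx hy hz hs h1 h2 h
    | exact klein_index_sorted hn hn3 hn0 hx hz hy (by linarith) h3 h2 (by linear_combination h)
    | exact klein_index_sorted hn hn3 hn0 hz hx hy (by linarith) h3 h1 (by linear_combination h)
    | exact klein_index_sorted hn hn3 hn0 hy hx hz (by linarith) h1 h3 (by linear_combination h)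
    | exact klein_index_sorted hn hn3 hn0 hy hz hx (by linarith) h2 h3 (by linear_combination h)
    | exact klein_index_sorted hn hn3 hn0 hz hy hx (by linarith) h2 h1 (by linear_combination h)

end Cfsg.Agent.Lib.JankoThompson.Arith
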